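import Cfsg.Agent.CITSolv.L27
import Cfsg.Agent.PrimeGraphCIT.Frame
import Cfsg.Agent.PrimeGraphCIT.Sz
import Cfsg.Agent.S0252
import Cfsg.Agent.S0253
import Cfsg.Agent.S0333

/-!
The groups PSL(2,q) and Sz(q) with at most one composite element order.
-/

set_option autoImplicit false
set_option linter.style.haveILetI false
set_option linter.unusedSectionVars false

namespace Cfsg.Agent.OneComposite

universe u

/-- any two composite element orders coincide -/
def AtMostOne (G : Type u) [Group G] : Prop :=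
  {n : ℕ | n ∈ Set.range (orderOf : G → ℕ) ∧ 1 < n ∧ ¬ n.Prime}.Subsingleton

/-- the simple groups with at most one composite element order -/
def GroupList (G : Type u) [Group G] : Prop :=
  (∃ (F : Type) (_ : Field F) (_ : Fintype F), (Fintype.card F = 5 ∨ Fintype.card F = 7 ∨ Fintype.card F = 8 ∨ Fintype.card F = 9 ∨
      Fintype.card F = 11 ∨ Fintype.card F = 13 ∨ Fintype.card F = 16) ∧ Nonempty (G ≃* Matrix.ProjectiveSpecialLinearGroup (Fin 2) F)) ∨
  (∃ (F : Type) (_ : Field F) (_ : Fintype F), Fintype.card F = 4 ∧ Nonempty (G ≃* Matrix.ProjectiveSpecialLinearGroup (Fin 3) F)) ∨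
  (∃ (F : Type) (_ : Field F) (_ : Fintype F), Fintype.card F = 8 ∧ Nonempty (G ≃* ↥(Cfsg.Lie.Sz F 4))) ∨
  (∃ (F : Type) (_ : Field F) (_ : Fintype F), ∃ n r s : ℕ, r.Prime ∧ s.Prime ∧ 3 ^ n - 1 = 2 * r ∧ 3 ^ n + 1 = 4 * s ∧
      Fintype.card F = 3 ^ n ∧ Nonempty (G ≃* Matrix.ProjectiveSpecialLinearGroup (Fin 2) F)) ∨
  (∃ (F : Type) (_ : Field F) (_ : Fintype F), ∃ n r : ℕ, (2 ^ n - 1).Prime ∧ r.Prime ∧ 2 ^ n + 1 = 3 * r ∧
      Fintype.card F = 2 ^ n ∧ Nonempty (G ≃* Matrix.ProjectiveSpecialLinearGroup (Fin 2) F))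

variable {G : Type u} [Group G] [Finite G]

theorem AtMostOne.eq (h : AtMostOne G) {x y : G} (hx : 1 < orderOf x) (hx' : ¬ (orderOf x).Prime)
    (hy : 1 < orderOf y) (hy' : ¬ (orderOf y).Prime) : orderOf x = orderOf y :=
  h ⟨⟨x, rfl⟩, hx, hx'⟩ ⟨⟨y, rfl⟩, hy, hy'⟩

/-- a proper divisor of an element order is 1 or a prime -/
theorem AtMostOne.prime_of_dvd (h : AtMostOne G) {x : G} {a k : ℕ} (hx : orderOf x = a)
    (hk : k ∣ a) (hk1 : 1 < k) (hka : k < a) : k.Prime := by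
  by_contra hkp
  have ha : ¬ a.Prime := fun hp => by
    rcases (Nat.dvd_prime hp).1 hk with e | e <;> omega
  have ho : orderOf (x ^ (orderOf x / k)) = k :=
    orderOf_pow_orderOf_div (orderOf_pos x).ne' (hx ▸ hk)
  have := h.eq (x := x) (y := x ^ (orderOf x / k)) (by omega) (hx ▸ ha) (by omega) (by rwa [ho])
  omega

/-- if the order of `x` is composite then other orders are trivial, prime or the same -/
theorem AtMostOne.other_prime (h : AtMostOne G) {x y : G} {a b : ℕ} (hx : orderOf x = a)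
    (hy : orderOf y = b) (ha : 1 < a) (ha' : ¬ a.Prime) (hb : 1 < b) (hne : a ≠ b) : b.Prime := by
  by_contra hbp
  have := h.eq (x := x) (y := y) (by omega) (hx ▸ ha') (by omega) (hy ▸ hbp)
  omega

omit [Finite G] in
theorem not_prime_of_dvd {a k : ℕ} (hk : k ∣ a) (hk1 : 1 < k) (hka : k < a) : ¬ a.Prime := fun hp => by
  rcases (Nat.dvd_prime hp).1 hk with e | e <;> omega

theorem even_case (h : AtMostOne G) {n : ℕ} (hn : 2 ≤ n) {x y : G}
    (hx : orderOf x = 2 ^ n - 1) (hy : orderOf y = 2 ^ n + 1) :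
    n = 2 ∨ n = 4 ∨ ∃ r : ℕ, (2 ^ n - 1).Prime ∧ r.Prime ∧ 2 ^ n + 1 = 3 * r := by
  have h4 : 2 ^ 2 ≤ 2 ^ n := Nat.pow_le_pow_right two_pos hn
  rcases Nat.even_or_odd n with ⟨m, rfl⟩ | ⟨m, rfl⟩
  · obtain ⟨u, hu⟩ : ∃ u, 2 ^ m = u + 1 := ⟨2 ^ m - 1, by have := Nat.one_le_two_pow (n := m); omega⟩
    have hsq : 2 ^ (m + m) - 1 = u * (u + 2) := by
      rw [pow_add, hu, show (u + 1) * (u + 1) = u * (u + 2) + 1 by ring, Nat.add_sub_cancel]
    by_cases hu1 : u = 1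
    · left
      rw [hu1] at hu
      have := Nat.pow_right_injective le_rfl (hu.trans (pow_one 2).symm)
      omega
    have hu0 : u ≠ 0 := by
      rintro rfl
      rw [zero_mul] at hsq
      omega
    have hA : 3 ∣ u * (u + 2) := by
      rw [← hsq, ← two_mul, pow_mul]
      have h := Nat.sub_dvd_pow_sub_pow 4 1 m
      rw [one_pow] at h
      exact h
    have hu2 : u + 2 < u * (u + 2) := lt_mul_of_one_lt_left (by omega) (by omega)
    have hp1 : u.Prime := h.prime_of_dvd hx (hsq ▸ dvd_mul_right _ _) (by omega) (by omega)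
    have hp2 : (u + 2).Prime := h.prime_of_dvd hx (hsq ▸ dvd_mul_left _ _) (by omega) (by omega)
    right; left
    have h3 : u = 3 ∨ u + 2 = 3 := (Nat.prime_three.dvd_mul.1 hA).imp
      (fun hd => ((Nat.prime_dvd_prime_iff_eq Nat.prime_three hp1).1 hd).symm)
      fun hd => ((Nat.prime_dvd_prime_iff_eq Nat.prime_three hp2).1 hd).symm
    have := Nat.pow_right_injective le_rfl (show 2 ^ m = 2 ^ 2 by omega)
    omega
  · right; right
    have h3 : 3 ∣ 2 ^ (2 * m + 1) + 1 := by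
      have : 4 ^ m % 3 = 1 := by rw [Nat.pow_mod]; norm_num
      rw [pow_succ, pow_mul]
      norm_num
      omega
    generalize 2 ^ (2 * m + 1) = N at h4 hx hy h3 ⊢
    obtain ⟨r, hr⟩ := h3
    have hr1 : 1 < r := by omega
    refine ⟨r, ?_, h.prime_of_dvd hy (hr ▸ dvd_mul_left _ _) hr1 (by omega), hr⟩
    exact h.other_prime hy hx (by omega) (not_prime_of_dvd ⟨r, hr⟩ (by norm_num) (by omega)) (by omega)
      (by omega)

theorem three_case (h : AtMostOne G) {n : ℕ} (hn : 2 ≤ n) {x y : G}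
    (hx : orderOf x = (3 ^ n - 1) / 2) (hy : orderOf y = (3 ^ n + 1) / 2) :
    n = 2 ∨ ∃ r s : ℕ, r.Prime ∧ s.Prime ∧ 3 ^ n - 1 = 2 * r ∧ 3 ^ n + 1 = 4 * s := by
  have h9 : 3 ^ 2 ≤ 3 ^ n := Nat.pow_le_pow_right (by norm_num) hn
  rcases Nat.even_or_odd n with ⟨m, rfl⟩ | ⟨m, rfl⟩
  · left
    have h8 : 3 ^ (m + m) % 8 = 1 := by
      rw [← two_mul, pow_mul, Nat.pow_mod]; norm_num
    by_contra hne
    have h81 : 3 ^ 4 ≤ 3 ^ (m + m) := Nat.pow_le_pow_right (by norm_num) (by omega)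
    exact absurd (h.prime_of_dvd hx (show 4 ∣ _ by omega) (by norm_num) (by omega)) (by norm_num)
  · right
    have h8 : 3 ^ (2 * m + 1) % 8 = 3 := by
      rw [pow_succ, pow_mul, Nat.mul_mod, Nat.pow_mod]; norm_num
    have h27 : 3 ^ 3 ≤ 3 ^ (2 * m + 1) := Nat.pow_le_pow_right (by norm_num) (by omega)
    generalize 3 ^ (2 * m + 1) = N at h8 h27 hx hy ⊢
    obtain ⟨s, hs⟩ : ∃ s, N + 1 = 4 * s := ⟨(N + 1) / 4, by omega⟩
    refine ⟨(N - 1) / 2, s, ?_, ?_, by omega, hs⟩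
    · exact h.other_prime hy hx (by omega) (not_prime_of_dvd (k := 2) (by omega) (by norm_num) (by omega))
        (by omega) (by omega)
    · exact h.prime_of_dvd hy ⟨2, by omega⟩ (by omega) (by omega)

theorem odd_case (h : AtMostOne G) {q : ℕ} (hq : 5 ≤ q) (hodd : q % 2 = 1) (h3 : ¬ 3 ∣ q) {x y : G}
    (hx : orderOf x = (q - 1) / 2) (hy : orderOf y = (q + 1) / 2) :
    q = 5 ∨ q = 7 ∨ q = 11 ∨ q = 13 := by
  have key : ∀ {e o : ℕ} {u v : G}, orderOf u = e → orderOf v = o → 2 ∣ e → (e + 1 = o ∨ o + 1 = e) →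
      (3 ∣ e ∨ 3 ∣ o) → e = 2 ∨ e = 4 ∨ e = 6 := by
    intro e o u v hu hv h2 hne h30
    rcases h2 with ⟨s, rfl⟩
    have he0 : 0 < 2 * s := hu ▸ orderOf_pos u
    by_contra hc
    have hs : s.Prime := h.prime_of_dvd hu (dvd_mul_left _ _) (by omega) (by omega)
    rcases h30 with h30 | h30
    · rcases Nat.prime_three.dvd_mul.1 h30 with h30 | h30
      · omega
      · have := (Nat.prime_dvd_prime_iff_eq Nat.prime_three hs).1 h30
        omega
    · have := (Nat.prime_dvd_prime_iff_eq Nat.prime_three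
        (h.other_prime hu hv (by omega) (not_prime_of_dvd (dvd_mul_right 2 s) (by norm_num) (by omega))
          (by omega) (by omega))).1 h30
      omega
  have h30 : 3 ∣ (q - 1) / 2 ∨ 3 ∣ (q + 1) / 2 := by
    rcases (by omega : q % 6 = 1 ∨ q % 6 = 5) with h6 | h6
    · exact Or.inl (by omega)
    · exact Or.inr (by omega)
  by_cases hpar : 2 ∣ (q - 1) / 2
  · rcases key hx hy hpar (by omega) h30 with e | e | e <;> omega
  · rcases key hy hx (by omega) (by omega) h30.symm with e | e | e <;> omega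

theorem psl_list (h : AtMostOne G) {F : Type} [iF : Field F] [iFF : Fintype F]
    (hq : 4 ≤ Fintype.card F) (e : G ≃* Matrix.ProjectiveSpecialLinearGroup (Fin 2) F) :
    GroupList G := by
  obtain ⟨⟨x₀, hx⟩, ⟨y₀, hy⟩⟩ := CITSolv.exists_torus (F := F) hq
  rw [← e.symm.orderOf_eq] at hx hy
  obtain ⟨p, hpc⟩ := CharP.exists F
  obtain ⟨k, hp, hk⟩ := FiniteField.card F p
  rcases eq_or_ne p 2 with rfl | hp2
  · rw [hk, show Nat.gcd 2 (2 ^ (k : ℕ) - 1) = 1 from Nat.prime_two.coprime_iff_not_dvd.2 (by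
        have h2 : 2 ∣ 2 ^ (k : ℕ) := dvd_pow_self 2 k.pos.ne'
        omega), Nat.div_one] at hx hy
    have hk2 : 2 ≤ (k : ℕ) := by
      by_contra hlt
      have := k.pos
      rw [hk, show (k : ℕ) = 1 by omega] at hq
      norm_num at hq
    rcases even_case h hk2 hx hy with h2 | h4 | ⟨r, hr1, hr2, hr3⟩
    · haveI : Fact (Nat.Prime 5) := ⟨by norm_num⟩
      obtain ⟨f⟩ := Cfsg.Agent.S0253.result (ZMod.card 5)
      obtain ⟨g⟩ := Cfsg.Agent.S0252.result (show Fintype.card F = 4 by rw [hk, h2]; norm_num)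
      exact Or.inl ⟨ZMod 5, inferInstance, inferInstance, Or.inl (ZMod.card 5), ⟨(e.trans g).trans f.symm⟩⟩
    · exact Or.inl ⟨F, iF, iFF, by rw [hk, h4]; norm_num, ⟨e⟩⟩
    · exact Or.inr (Or.inr (Or.inr (Or.inr ⟨F, iF, iFF, k, r, hr1, hr2, hr3, hk, ⟨e⟩⟩)))
  · have hodd : Fintype.card F % 2 = 1 := by
      rw [hk, Nat.pow_mod, Nat.odd_iff.1 (hp.odd_of_ne_two hp2)]; norm_num
    rw [show Nat.gcd 2 (Fintype.card F - 1) = 2 from Nat.gcd_eq_left (by omega)] at hx hy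
    rcases eq_or_ne p 3 with rfl | hp3
    · rw [hk] at hx hy
      have hk2 : 2 ≤ (k : ℕ) := by
        by_contra hlt
        have := k.pos
        rw [hk, show (k : ℕ) = 1 by omega] at hq
        norm_num at hq
      rcases three_case h hk2 hx hy with h2 | ⟨r, s, hr, hs, h1, h2⟩
      · exact Or.inl ⟨F, iF, iFF, by rw [hk, h2]; norm_num, ⟨e⟩⟩
      · exact Or.inr (Or.inr (Or.inr (Or.inl ⟨F, iF, iFF, k, r, s, hr, hs, h1, h2, hk, ⟨e⟩⟩)))
    · have hd : ¬ 3 ∣ Fintype.card F := fun hd =>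
        hp3 ((Nat.prime_dvd_prime_iff_eq Nat.prime_three hp).1
          (Nat.prime_three.dvd_of_dvd_pow (hk ▸ hd))).symm
      refine Or.inl ⟨F, iF, iFF, ?_, ⟨e⟩⟩
      rcases odd_case h (by omega) hodd hd hx hy with h' | h' | h' | h' <;> omega

theorem sz_list (h : AtMostOne G) {F : Type} [iF : Field F] [iFF : Fintype F] {m : ℕ} (hm : 1 ≤ m)
    (hF : Fintype.card F = 2 ^ (2 * m + 1)) (e : G ≃* Cfsg.Sz F m) : GroupList G := by
  classical
  obtain ⟨f⟩ := Suzuki.nonempty_equiv hm hF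
  -- an element of order 4
  let P : Sylow 2 (Cfsg.Sz F m) := default
  obtain ⟨hc, hP, -⟩ := PrimeGraphCIT.sz_sylow hm hF P
  obtain ⟨z, hz⟩ : ∃ z : P, z * z ≠ 1 := by
    by_contra hall
    push Not at hall
    have hcomm : ∀ a b : P, a * b = b * a := fun a b => by
      have hinv : ∀ a : P, a⁻¹ = a := fun a => inv_eq_of_mul_eq_one_left (hall a)
      calc a * b = (a * b)⁻¹ := (hinv _).symm
        _ = b⁻¹ * a⁻¹ := mul_inv_rev _ _
        _ = b * a := by rw [hinv, hinv]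
    have htop : Subgroup.center (P : Subgroup (Cfsg.Sz F m)) = ⊤ :=
      eq_top_iff.2 fun a _ => Subgroup.mem_center_iff.2 fun b => hcomm b a
    rw [htop, Subgroup.card_top, hP, Nat.card_eq_fintype_card, hF] at hc
    have h8 : 2 ^ 3 ≤ 2 ^ (2 * m + 1) := Nat.pow_le_pow_right two_pos (by omega)
    nlinarith
  obtain ⟨j, hj⟩ := IsPGroup.iff_orderOf.1 P.2 z
  have hj2 : 2 ≤ j := by
    by_contra hlt
    refine hz ?_
    rw [← sq, ← orderOf_dvd_iff_pow_eq_one, hj]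
    exact (pow_dvd_pow 2 (show j ≤ 1 by omega))
  have hz4 : orderOf (e.symm (z : Cfsg.Sz F m) ^ (orderOf (e.symm (z : Cfsg.Sz F m)) / 4)) = 4 := by
    refine orderOf_pow_orderOf_div (orderOf_pos _).ne' ?_
    rw [e.symm.orderOf_eq, Subgroup.orderOf_coe, hj]
    exact pow_dvd_pow 2 hj2
  -- the tori
  have tor : ∀ k ∈ ({2 ^ (2 * m + 1) + 2 ^ (m + 1) + 1, 2 ^ (2 * m + 1) - 2 ^ (m + 1) + 1} : Set ℕ),
      ∃ u : G, orderOf u = k := by
    intro k hk
    obtain ⟨U, hU, hUc, -⟩ := Cfsg.Agent.S0333.result hm hF k hk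
    obtain ⟨u, hu⟩ := hU.exists_generator
    exact ⟨e.symm (u : Cfsg.Sz F m), by
      rw [MulEquiv.orderOf_eq, Subgroup.orderOf_coe, orderOf_eq_card_of_forall_mem_zpowers hu, hUc]⟩
  obtain ⟨u, hu⟩ := tor _ (Set.mem_insert _ _)
  obtain ⟨v, hv⟩ := tor _ (Set.mem_insert_of_mem _ rfl)
  obtain ⟨he1, -, hlt⟩ := Suzuki.torus_facts hm
  have hu' : (2 ^ (2 * m + 1) + 2 ^ (m + 1) + 1).Prime := by
    have hev : 2 ∣ 2 ^ (2 * m + 1) := dvd_pow_self 2 (by omega)
    have hev' : 2 ∣ 2 ^ (m + 1) := dvd_pow_self 2 (by omega)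
    generalize 2 ^ (2 * m + 1) = Q at hu hev hlt ⊢
    generalize 2 ^ (m + 1) = R at hu hev' hlt ⊢
    exact h.other_prime hz4 hu (by norm_num) (by norm_num) (by omega) (by omega)
  have hv' : (2 ^ (2 * m + 1) - 2 ^ (m + 1) + 1).Prime := by
    have hev : 2 ∣ 2 ^ (2 * m + 1) := dvd_pow_self 2 (by omega)
    have hev' : 2 ∣ 2 ^ (m + 1) := dvd_pow_self 2 (by omega)
    generalize 2 ^ (2 * m + 1) = Q at hv hev hlt ⊢
    generalize 2 ^ (m + 1) = R at hv hev' hlt ⊢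
    exact h.other_prime hz4 hv (by norm_num) (by norm_num) (by omega) (by omega)
  have h5 : 5 ∣ (2 ^ (2 * m + 1) + 2 ^ (m + 1) + 1) * (2 ^ (2 * m + 1) - 2 ^ (m + 1) + 1) := by
    rw [he1, ← pow_mul, show (2 * m + 1) * 2 = 4 * m + 2 by ring, pow_add, pow_mul]
    have : (2 ^ 4) ^ m % 5 = 1 := by rw [Nat.pow_mod]; norm_num
    omega
  have hm1 : m = 1 := by
    by_contra hne
    have h2m : 2 ^ (2 * m + 1) = 2 ^ (m + 1) * 2 ^ m := by rw [← pow_add]; congr 1; ring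
    have h4 : 2 ^ 2 ≤ 2 ^ m := Nat.pow_le_pow_right two_pos (by omega)
    have : 2 ^ (m + 1) * 4 ≤ 2 ^ (2 * m + 1) := h2m ▸ Nat.mul_le_mul_left _ h4
    have h8 : 2 ^ 3 ≤ 2 ^ (m + 1) := Nat.pow_le_pow_right two_pos (by omega)
    generalize 2 ^ (2 * m + 1) = Q at this hlt h5 hu' hv'
    generalize 2 ^ (m + 1) = R at this hlt h5 hu' hv' h8
    rcases (by norm_num : Nat.Prime 5).dvd_mul.1 h5 with hd | hd
    · have := (Nat.prime_dvd_prime_iff_eq (by norm_num) hu').1 hd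
      omega
    · have := (Nat.prime_dvd_prime_iff_eq (by norm_num) hv').1 hd
      omega
  subst hm1
  exact Or.inr (Or.inr (Or.inl ⟨F, iF, iFF, hF, ⟨e.trans f⟩⟩))

theorem list_of_citList [IsSimpleGroup G] (hna : ∃ a b : G, a * b ≠ b * a) (h : AtMostOne G)
    (hL : PrimeGraphCIT.CITList G) : GroupList G := by
  rcases hL with ⟨F, iF, iFF, -, ⟨e⟩⟩ | h34 | ⟨F, iF, iFF, m, hm, hF, ⟨e⟩⟩
  · refine psl_list h ?_ e
    by_contra hlt
    have := Fintype.one_lt_card (α := F)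
    have hcard := CITSolv.card_psl_two (F := F) (q := Fintype.card F) rfl
    rw [← Nat.card_congr e.toEquiv] at hcard
    obtain ⟨a, b, hab⟩ := hna
    refine hab (IsSimpleGroup.comm_iff_isSolvable.2 ?_ a b)
    rcases (by omega : Fintype.card F = 2 ∨ Fintype.card F = 3) with h2 | h2 <;> rw [h2] at hcard <;>
      norm_num at hcard
    · exact Cfsg.Agent.S0144.result 2 3 1 1 Nat.prime_two Nat.prime_three (by omega)
    · exact Cfsg.Agent.S0144.result 2 3 2 1 Nat.prime_two Nat.prime_three (by omega)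
  · exact Or.inr (Or.inl h34)
  · obtain ⟨f⟩ := Suzuki.nonempty_equiv hm hF
    exact sz_list h hm hF (e.trans f.symm)

end Cfsg.Agent.OneComposite
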