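import Cfsg.Agent.OneComposite.Lists
import Cfsg.Agent.SmallOrder.Two
import Cfsg.Agent.PrimeGraphCIT.Cases
import Cfsg.Agent.PSLThreeFour.Elementary
import Cfsg.Agent.S0254

/-!
At most five automorphism orbits: at most five element orders.
-/

set_option autoImplicit false
set_option linter.unusedSectionVars false

namespace Cfsg.Agent.OneComposite

universe u

variable {G : Type u} [Group G] [Finite G]

theorem card_orders_le (h5 : Nat.card (MulAction.orbitRel.Quotient (MulAut G) G) ≤ 5) {S : Finset ℕ}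
    (hS : ∀ n ∈ S, ∃ g : G, orderOf g = n) : S.card ≤ 5 := by
  classical
  have := Fintype.ofFinite (MulAction.orbitRel.Quotient (MulAut G) G)
  let o : MulAction.orbitRel.Quotient (MulAut G) G → ℕ := fun q =>
    Quotient.liftOn' q (fun g : G => orderOf g) fun a b hab => by
      obtain ⟨f, rfl⟩ := MulAction.mem_orbit_iff.1 (MulAction.orbitRel_apply.1 hab)
      exact MulEquiv.orderOf_eq f b
  rw [Nat.card_eq_fintype_card] at h5
  refine le_trans ?_ (le_trans (Finset.card_image_le (s := Finset.univ) (f := o)) h5)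
  refine Finset.card_le_card fun n hn => ?_
  obtain ⟨g, rfl⟩ := hS n hn
  exact Finset.mem_image.2 ⟨Quotient.mk'' g, Finset.mem_univ _, rfl⟩

theorem exists_three_primes [IsSimpleGroup G] (hna : ¬ IsMulCommutative G) :
    2 < (Nat.card G).primeFactors.card := by
  by_contra hle
  have h0 : Nat.card G ≠ 0 := Nat.card_pos.ne'
  obtain ⟨p, q, hp, hq, hsub⟩ : ∃ p q, p.Prime ∧ q.Prime ∧ (Nat.card G).primeFactors ⊆ {p, q} := by
    have hpr : ∀ x ∈ (Nat.card G).primeFactors, x.Prime := fun x => Nat.prime_of_mem_primeFactors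
    generalize (Nat.card G).primeFactors = s at hle hpr
    rcases (by omega : s.card = 0 ∨ s.card = 1 ∨ s.card = 2) with h | h | h
    · exact ⟨2, 2, Nat.prime_two, Nat.prime_two, by simp [Finset.card_eq_zero.1 h]⟩
    · obtain ⟨x, rfl⟩ := Finset.card_eq_one.1 h
      exact ⟨x, x, hpr x (by simp), hpr x (by simp), by simp⟩
    · obtain ⟨x, y, -, rfl⟩ := Finset.card_eq_two.1 h
      exact ⟨x, y, hpr x (by simp), hpr y (by simp), subset_rfl⟩
  have hprod := Nat.prod_primeFactors_pow_factorization h0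
  rw [Finset.prod_subset hsub (fun x hx hxn => by
    rw [← Nat.support_factorization, Finsupp.notMem_support_iff] at hxn
    rw [hxn, pow_zero])] at hprod
  rcases eq_or_ne p q with rfl | hpq
  · simp only [Finset.insert_eq_of_mem (Finset.mem_singleton_self p), Finset.prod_singleton] at hprod
    exact SmallOrder.three_primes hna hp hp (a := (Nat.card G).factorization p) (b := 0)
      (by rw [pow_zero, mul_one]; exact hprod)
  · rw [Finset.prod_pair hpq] at hprod
    exact SmallOrder.three_primes hna hp hq hprod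

theorem atMostOne_of_orbits [IsSimpleGroup G] (hna : ¬ IsMulCommutative G)
    (h5 : Nat.card (MulAction.orbitRel.Quotient (MulAut G) G) ≤ 5) : AtMostOne G := by
  classical
  rintro a ⟨ha, ha1, hap⟩ b ⟨hb, hb1, hbp⟩
  by_contra hab
  have hP : ∀ p ∈ (Nat.card G).primeFactors, ∃ g : G, orderOf g = p := fun p hp => by
    have := Fact.mk (Nat.prime_of_mem_primeFactors hp)
    exact exists_prime_orderOf_dvd_card' p (Nat.dvd_of_mem_primeFactors hp)
  have h1 := card_orders_le h5 (S := insert 1 (insert a (insert b (Nat.card G).primeFactors)))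
    (fun n hn => by
      simp only [Finset.mem_insert] at hn
      rcases hn with rfl | rfl | rfl | hn
      exacts [⟨1, orderOf_one⟩, ha, hb, hP n hn])
  rw [Finset.card_insert_of_notMem, Finset.card_insert_of_notMem, Finset.card_insert_of_notMem] at h1
  · have := exists_three_primes hna
    omega
  · exact fun h => hbp (Nat.prime_of_mem_primeFactors h)
  · simp only [Finset.mem_insert]
    rintro (h | h)
    exacts [hab h, hap (Nat.prime_of_mem_primeFactors h)]
  · simp only [Finset.mem_insert]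
    rintro (h | h | h)
    exacts [by omega, by omega, Nat.not_prime_one (Nat.prime_of_mem_primeFactors h)]

/-- A group with six element orders has more than five orbits. -/
theorem false_of_six (h5 : Nat.card (MulAction.orbitRel.Quotient (MulAut G) G) ≤ 5)
    {a b c d e : ℕ} (ha : ∃ g : G, orderOf g = a) (hb : ∃ g : G, orderOf g = b)
    (hc : ∃ g : G, orderOf g = c) (hd : ∃ g : G, orderOf g = d) (he : ∃ g : G, orderOf g = e)
    (hnd : [1, a, b, c, d, e].Nodup) : False := by
  have h1 := card_orders_le h5 (S := [1, a, b, c, d, e].toFinset) (fun n hn => by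
    simp only [List.mem_toFinset, List.mem_cons, List.not_mem_nil, or_false] at hn
    rcases hn with rfl | rfl | rfl | rfl | rfl | rfl
    exacts [⟨1, orderOf_one⟩, ha, hb, hc, hd, he])
  rw [List.toFinset_card_of_nodup hnd] at h1
  simp at h1

theorem exists_order_four_psl34 {F : Type*} [Field F] [Fintype F] (hF : Fintype.card F = 4) :
    ∃ x : Matrix.ProjectiveSpecialLinearGroup (Fin 3) F, orderOf x = 4 := by
  have h2 : (1 : F) + 1 = 0 := by rw [one_add_one_eq_two]; exact PSLThreeFour.two_eq_zero hF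
  refine ⟨PSLThreeFour.pr (PSLThreeFour.tt 1 1 0), ?_⟩
  have hsq : PSLThreeFour.tt (1 : F) 1 0 ^ 2 = PSLThreeFour.tt 0 0 1 := by
    rw [pow_two, PSLThreeFour.tt_mul]
    exact PSLThreeFour.tt_congr h2 h2 (by simp)
  have : Fact (Nat.Prime 2) := ⟨Nat.prime_two⟩
  refine orderOf_eq_prime_pow (p := 2) (n := 1) ?_ ?_
  · rw [pow_one, ← map_pow, hsq]
    intro h
    rw [← map_one PSLThreeFour.pr, ← PSLThreeFour.tt_zero] at h
    exact one_ne_zero (PSLThreeFour.pr_tt_injective h).2.2
  · rw [show (2 : ℕ) ^ (1 + 1) = 2 * 2 from rfl, pow_mul, ← map_pow, hsq, ← map_pow, pow_two,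
      PSLThreeFour.tt_mul]
    rw [← map_one PSLThreeFour.pr, ← PSLThreeFour.tt_zero]
    exact congrArg _ (PSLThreeFour.tt_congr (by simp) (by simp) (by rw [mul_zero, add_zero]; exact h2))

theorem exists_order_four_sz {F : Type} [Field F] [Fintype F] {m : ℕ} (hm : 1 ≤ m)
    (hF : Fintype.card F = 2 ^ (2 * m + 1)) : ∃ x : Cfsg.Sz F m, orderOf x = 4 := by
  classical
  let P : Sylow 2 (Cfsg.Sz F m) := default
  obtain ⟨hc, hP, -⟩ := PrimeGraphCIT.sz_sylow hm hF P
  obtain ⟨z, hz⟩ : ∃ z : P, z * z ≠ 1 := by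
    by_contra hall
    push Not at hall
    have hcomm : ∀ a b : P, a * b = b * a := fun a b => by
      have hinv : ∀ a : P, a⁻¹ = a := fun a => inv_eq_of_mul_eq_one_left (hall a)
      calc a * b = (a * b)⁻¹ := (hinv _).symm
        _ = b⁻¹ * a⁻¹ := mul_inv_rev _ _
        _ = b * a := by rw [hinv, hinv]
    have htop : Subgroup.center (P : Subgroup (Cfsg.Sz F m)) = ⊤ :=
      eq_top_iff.2 fun a _ => Subgroup.mem_center_iff.2 fun b => hcomm b a
    rw [htop, Subgroup.card_top, hP, Nat.card_eq_fintype_card, hF] at hc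
    have h8 : 2 ^ 3 ≤ 2 ^ (2 * m + 1) := Nat.pow_le_pow_right two_pos (by omega)
    nlinarith
  obtain ⟨j, hj⟩ := IsPGroup.iff_orderOf.1 P.2 z
  have hj2 : 2 ≤ j := by
    by_contra hlt
    refine hz ?_
    rw [← sq, ← orderOf_dvd_iff_pow_eq_one, hj]
    exact (pow_dvd_pow 2 (show j ≤ 1 by omega))
  refine ⟨(z : Cfsg.Sz F m) ^ (orderOf (z : Cfsg.Sz F m) / 4),
    orderOf_pow_orderOf_div (orderOf_pos _).ne' ?_⟩
  rw [Subgroup.orderOf_coe, hj]
  exact pow_dvd_pow 2 hj2

variable [IsSimpleGroup G]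

theorem orbit_list (h5 : Nat.card (MulAction.orbitRel.Quotient (MulAut G) G) ≤ 5)
    (hL : GroupList G) :
    Nonempty (G ≃* ↥(alternatingGroup (Fin 5))) ∨ Nonempty (G ≃* ↥(alternatingGroup (Fin 6))) ∨
      (∃ (F : Type) (_ : Field F) (_ : Fintype F), (Fintype.card F = 7 ∨ Fintype.card F = 8) ∧
        Nonempty (G ≃* Matrix.ProjectiveSpecialLinearGroup (Fin 2) F)) := by
  classical
  rcases hL with ⟨F, iF, iFF, hF, ⟨e⟩⟩ | ⟨F, iF, iFF, hF, ⟨e⟩⟩ | ⟨F, iF, iFF, hF, ⟨e⟩⟩ |
    ⟨F, iF, iFF, n, r, s, hr, hs, h1, h2, hF, ⟨e⟩⟩ | ⟨F, iF, iFF, n, r, hm, hr, h2, hF, ⟨e⟩⟩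
  · have hcard := CITSolv.card_psl_two (F := F) (q := Fintype.card F) rfl
    rw [← Nat.card_congr e.toEquiv] at hcard
    have hP : ∀ p : ℕ, p.Prime → p ∣ Nat.card G → ∃ g : G, orderOf g = p := fun p hp hd => by
      have := Fact.mk hp
      exact exists_prime_orderOf_dvd_card' p hd
    have hT : 4 ≤ Fintype.card F → (∃ g : G, orderOf g =
          (Fintype.card F - 1) / Nat.gcd 2 (Fintype.card F - 1)) ∧
        ∃ g : G, orderOf g = (Fintype.card F + 1) / Nat.gcd 2 (Fintype.card F - 1) := fun hq => by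
      obtain ⟨⟨x, hx⟩, ⟨y, hy⟩⟩ := CITSolv.exists_torus (F := F) hq
      exact ⟨⟨e.symm x, by rw [e.symm.orderOf_eq, hx]⟩, ⟨e.symm y, by rw [e.symm.orderOf_eq, hy]⟩⟩
    rcases hF with hF | hF | hF | hF | hF | hF | hF
    · exact Or.inl ⟨e.trans (Cfsg.Agent.S0253.result hF).some⟩
    · exact Or.inr (Or.inr ⟨F, iF, iFF, Or.inl hF, ⟨e⟩⟩)
    · exact Or.inr (Or.inr ⟨F, iF, iFF, Or.inr hF, ⟨e⟩⟩)
    · exact Or.inr (Or.inl ⟨e.trans (Cfsg.Agent.S0254.result hF).some⟩)
    all_goals
      rw [hF] at hcard hT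
      norm_num at hcard hT
    · exact (false_of_six h5 (hP 2 (by norm_num) (by omega)) (hP 3 (by norm_num) (by omega))
        hT.1 hT.2 (hP 11 (by norm_num) (by omega)) (by decide)).elim
    · exact (false_of_six h5 (hP 2 (by norm_num) (by omega)) (hP 3 (by norm_num) (by omega))
        hT.1 hT.2 (hP 13 (by norm_num) (by omega)) (by decide)).elim
    · exact (false_of_six h5 (hP 2 (by norm_num) (by omega)) (hP 3 (by norm_num) (by omega))
        hT.1 hT.2 (hP 5 (by norm_num) (by omega)) (by decide)).elim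
  · have hcard : Nat.card G = 20160 :=
      (Nat.card_congr e.toEquiv).trans (PrimeGraphCIT.card_psl_three_four hF)
    obtain ⟨x, hx⟩ := exists_order_four_psl34 hF
    have hP : ∀ p : ℕ, p.Prime → p ∣ 20160 → ∃ g : G, orderOf g = p := fun p hp hd => by
      have := Fact.mk hp
      exact exists_prime_orderOf_dvd_card' p (hcard ▸ hd)
    exact (false_of_six h5 (hP 2 (by norm_num) (by norm_num)) (hP 3 (by norm_num) (by norm_num))
      ⟨e.symm x, by rw [e.symm.orderOf_eq, hx]⟩ (hP 5 (by norm_num) (by norm_num))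
      (hP 7 (by norm_num) (by norm_num)) (by decide)).elim
  · obtain ⟨f⟩ := Suzuki.nonempty_equiv (F := F) (m := 1) le_rfl (by rw [hF]; norm_num)
    have hcard : Nat.card G = 29120 := by
      rw [Nat.card_congr (e.trans f.symm).toEquiv, Suzuki.card_eq le_rfl (by rw [hF]; norm_num),
        Nat.card_eq_fintype_card (α := F), hF]; norm_num
    obtain ⟨x, hx⟩ := exists_order_four_sz (F := F) (m := 1) le_rfl (by rw [hF]; norm_num)
    have hP : ∀ p : ℕ, p.Prime → p ∣ 29120 → ∃ g : G, orderOf g = p := fun p hp hd => by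
      have := Fact.mk hp
      exact exists_prime_orderOf_dvd_card' p (hcard ▸ hd)
    exact (false_of_six h5 (hP 2 (by norm_num) (by norm_num)) (hP 13 (by norm_num) (by norm_num))
      ⟨(e.trans f.symm).symm x, by rw [MulEquiv.orderOf_eq, hx]⟩ (hP 5 (by norm_num) (by norm_num))
      (hP 7 (by norm_num) (by norm_num)) (by decide)).elim
  · exfalso
    have hr1 := hr.two_le
    have hs1 := hs.two_le
    have hn : 3 ≤ n := by
      by_contra hlt
      rcases (by omega : n = 0 ∨ n = 1 ∨ n = 2) with rfl | rfl | rfl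
      · omega
      · omega
      · norm_num at h1
        rw [show r = 4 by omega] at hr
        exact absurd hr (by norm_num)
    have h27 : 3 ^ 3 ≤ 3 ^ n := Nat.pow_le_pow_right (by norm_num) hn
    obtain ⟨⟨x, hx⟩, ⟨y, hy⟩⟩ := CITSolv.exists_torus (F := F) (by rw [hF]; omega)
    rw [← e.symm.orderOf_eq, hF, Nat.gcd_eq_left (by omega : 2 ∣ 3 ^ n - 1)] at hx hy
    have hcard := CITSolv.card_psl_two (F := F) (q := Fintype.card F) rfl
    rw [← Nat.card_congr e.toEquiv] at hcard
    have : Fact (Nat.Prime 3) := ⟨Nat.prime_three⟩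
    have : CharP F 3 := by
      obtain ⟨p, hpc⟩ := CharP.exists F
      obtain ⟨k, hp, hk⟩ := FiniteField.card F p
      have h3 : p ∣ 3 ^ n := hF ▸ hk ▸ dvd_pow_self p k.pos.ne'
      exact ((Nat.prime_dvd_prime_iff_eq hp Nat.prime_three).1 (hp.dvd_of_dvd_pow h3)) ▸ hpc
    obtain ⟨g3, hg3⟩ := exists_prime_orderOf_dvd_card' (G := G) 3 (by
      rw [hF, Nat.gcd_eq_left (by omega : 2 ∣ 3 ^ n - 1)] at hcard
      have hd : 3 ∣ 2 * ((3 ^ n - 1) * Nat.card G) := by
        rw [hcard]
        exact dvd_mul_of_dvd_right (Nat.dvd_sub ((dvd_pow_self 3 (by omega)).trans (dvd_pow_self _ two_ne_zero))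
          (dvd_pow_self 3 (by omega))) _
      have h33 : 3 ∣ 3 ^ n := dvd_pow_self 3 (by omega)
      exact (Nat.prime_three.dvd_mul.1 ((Nat.prime_three.dvd_mul.1 hd).resolve_left
        (by norm_num))).resolve_left (by omega))
    exact false_of_six h5 ⟨g3, hg3⟩ ⟨_, (show orderOf (e.symm x) = r by omega)⟩
      ⟨_, (show orderOf (e.symm y) = 2 * s by omega)⟩
      ⟨e.symm y ^ 2, (show orderOf (e.symm y ^ 2) = s by
        rw [orderOf_pow, show orderOf (e.symm y) = 2 * s by omega,
          Nat.gcd_eq_right (dvd_mul_right 2 s), Nat.mul_div_cancel_left _ two_pos])⟩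
      ⟨e.symm y ^ s, (show orderOf (e.symm y ^ s) = 2 by
        rw [orderOf_pow, show orderOf (e.symm y) = 2 * s by omega,
          Nat.gcd_eq_right (dvd_mul_left s 2), Nat.mul_div_cancel _ hs.pos])⟩
      (by simp only [List.nodup_cons, List.mem_cons, List.not_mem_nil, or_false, not_or,
            List.nodup_nil, not_false_eq_true, and_true]; omega)
  · rcases eq_or_ne n 3 with rfl | hn3
    · exact Or.inr (Or.inr ⟨F, iF, iFF, Or.inr (by rw [hF]; norm_num), ⟨e⟩⟩)
    exfalso
    have hr1 := hr.two_le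
    have hm1 := hm.two_le
    have hn : 4 ≤ n := by
      by_contra hlt
      rcases (by omega : n = 0 ∨ n = 1 ∨ n = 2) with rfl | rfl | rfl
      · norm_num at hm
      · norm_num at hm
      · norm_num at h2
        omega
    have h16 : 2 ^ 4 ≤ 2 ^ n := Nat.pow_le_pow_right two_pos hn
    have hev : 2 ∣ 2 ^ n := dvd_pow_self 2 (by omega)
    obtain ⟨⟨x, hx⟩, ⟨y, hy⟩⟩ := CITSolv.exists_torus (F := F) (by rw [hF]; omega)
    rw [← e.symm.orderOf_eq, hF, show Nat.gcd 2 (2 ^ n - 1) = 1 from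
      Nat.prime_two.coprime_iff_not_dvd.2 (by omega), Nat.div_one] at hx hy
    obtain ⟨g2, hg2⟩ := exists_prime_orderOf_dvd_card' (G := G) (hp := ⟨Nat.prime_two⟩) 2 (by
      have hcard := CITSolv.card_psl_two (F := F) (q := Fintype.card F) rfl
      rw [← Nat.card_congr e.toEquiv, hF, show Nat.gcd 2 (2 ^ n - 1) = 1 from
        Nat.prime_two.coprime_iff_not_dvd.2 (by omega), one_mul] at hcard
      have hd : 2 ∣ (2 ^ n - 1) * Nat.card G := by
        rw [hcard]
        exact dvd_mul_of_dvd_right (Nat.dvd_sub (hev.trans (dvd_pow_self _ two_ne_zero)) hev) _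
      exact (Nat.prime_two.dvd_mul.1 hd).resolve_left (by omega))
    exact false_of_six h5 ⟨g2, hg2⟩ ⟨_, hx⟩ ⟨_, (hy.trans h2)⟩
      ⟨e.symm y ^ 3, (show orderOf (e.symm y ^ 3) = r by
        rw [orderOf_pow, hy, h2, Nat.gcd_eq_right (dvd_mul_right 3 r),
          Nat.mul_div_cancel_left _ (by norm_num)])⟩
      ⟨e.symm y ^ r, (show orderOf (e.symm y ^ r) = 3 by
        rw [orderOf_pow, hy, h2, Nat.gcd_eq_right (dvd_mul_left r 3),
          Nat.mul_div_cancel _ hr.pos])⟩
      (by simp only [List.nodup_cons, List.mem_cons, List.not_mem_nil, or_false, not_or,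
            List.nodup_nil, not_false_eq_true, and_true]; omega)

end Cfsg.Agent.OneComposite
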